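import Cfsg.Agent.MK.GC.Row
import Cfsg.Agent.ClassicalGeometry.SympAutRecog
import Cfsg.Agent.ClassicalGeometry.SympAutExists
import Cfsg.Agent.Lib.FieldAutCard

/-!
# MK, `PSp_{2k}(q)`, `q ≡ 3 mod 4`: the alternative for the groups of automorphisms (helper5)

**`alt : P.Alt`**, **`row_psp (H : Steps) (hP : P.CaseP) : Row PspO`**.
-/

set_option autoImplicit false
set_option linter.unusedSectionVars false

open Cfsg

namespace Cfsg.Agent.MK.GC

open Cfsg.Agent.ClassicalGeometry.SympAutSemi Cfsg.Agent.ClassicalGeometry.SympGamma Cfsg.Agent.ODD.C3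
  Cfsg.Agent.TitsThree.SpIdent Cfsg.Agent.MK.P Equiv

variable {F : Type} [Field F] {k : ℕ}

theorem Psi_toPSp (s : semiSim k F) {g g' : isos (form k F)} (h : ∀ v, g'.1 (s.1 v) = s.1 (g.1 v)) :
    Psi k F s (toPSp g) = toPSp g' := by
  refine (Psi_mk s (toSp g)).trans (congrArg QuotientGroup.mk (rho_injective ?_))
  rw [rho_conjHom, mul_inv_eq_iff_eq_mul]
  refine Equiv.ext fun v => ?_
  rw [Perm.mul_apply, Perm.mul_apply, rho_apply, rho_apply, toSp_mulVec, toSp_mulVec]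
  exact (h v).symm

/-- the dilatation -/
def dl (k : ℕ) (l : Fˣ) : semiSim k F := ⟨dilPerm k l, _, _, l.ne_zero, isSemi_dilPerm l⟩

theorem Psi_dl (l : Fˣ) : Psi k F (dl k l) = del 1 l := MulEquiv.ext fun u => by
  obtain ⟨g, rfl⟩ := toPSp_surjective u
  have h1 : ∀ v, (dl k l).1 v = DD 1 l v := fun v => funext fun j => by
    rcases j with j | j
    · rw [DD_inl, Pi.one_apply, inv_one, mul_one]
      rfl
    · rw [DD_inr, Pi.one_apply, Units.val_one, one_mul]
      rfl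
  rw [del_toPSp]
  refine Psi_toPSp _ fun v => ?_
  rw [h1, h1, cjD_val]
  exact congrArg (fun w => DD 1 l (g.1 w)) ((DD 1 l).symm_apply_apply v)

theorem exists_par [Finite F] (hk : 2 ≤ k) (h2 : (2 : F) ≠ 0) (α : MulAut (PSp k F)) :
    ∃ (g : PSp k F) (l : Fˣ) (σ : F ≃+* F), α = MulAut.conj g * (del 1 l * fld k F σ) := by
  obtain ⟨s, rfl⟩ := ClassicalGeometry.SympAutExists.exists_semi hk α (ClassicalGeometry.SympAutRecog.recog_odd hk h2 α)
  obtain ⟨⟨σ, l, A⟩, rfl⟩ := (par_bijective (m := k) (F := F) (by omega)).2 s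
  obtain ⟨g, rfl⟩ := toSp_surjective A
  have h1 : par k F (σ, l, toSp g) = ⟨_, _, _, one_ne_zero, isSemi_rho (toSp g)⟩ * (dl k l * frob k F σ) := rfl
  refine ⟨toPSp g, l, σ, ?_⟩
  rw [h1, map_mul, map_mul, Psi_dl]
  congr 1
  refine MulEquiv.ext fun u => ?_
  obtain ⟨u, rfl⟩ := toPSp_surjective u
  rw [MulAut.conj_apply, ← map_inv, ← map_mul, ← map_mul]
  refine Psi_toPSp _ fun v => ?_
  show g.1 (u.1 (g.1⁻¹ (rho k F (toSp g) v))) = rho k F (toSp g) (u.1 v)
  rw [rho_apply, rho_apply, toSp_mulVec, toSp_mulVec]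
  exact congrArg (fun w => g.1 (u.1 w)) (g.1.symm_apply_apply v)

theorem commute_fld (σ : F ≃+* F) : Commute (del 1 (-1) : MulAut (PSp k F)) (fld k F σ) := by
  rw [← Psi_dl]
  refine Commute.map (x := dl k (-1)) (y := frob k F σ) (Subtype.ext (Equiv.ext fun v => funext fun j => ?_)) (Psi k F)
  show dilPerm k (-1) (frobPerm k σ v) j = frobPerm k σ (dilPerm k (-1) v) j
  rcases j with j | j
  · simp [dilPerm_inl, frobPerm_apply]
  · simp [dilPerm_inr, frobPerm_apply]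

theorem odd_aut [Fintype F] (h4 : Fintype.card F % 4 = 3) : Odd (Nat.card (F ≃+* F)) := by
  obtain ⟨p, hp⟩ := CharP.exists F
  obtain ⟨f, hpp, hf⟩ := FiniteField.card F p
  have := Fact.mk hpp
  rw [Lib.FieldAutCard.card_ringAut f.pos hf, ← Nat.not_even_iff_odd]
  rintro ⟨j, hj⟩
  rw [hf, hj, pow_add, Nat.mul_mod] at h4
  have h1 : p ^ j % 4 < 4 := Nat.mod_lt _ (by norm_num)
  generalize p ^ j % 4 = c at h1 h4
  interval_cases c <;> omega

/-- **the alternative** -/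
theorem alt : Alt := by
  intro F _ _ k h4 hk Γ hΓ
  have h2 := GAL.Nrm.two_ne_of_odd (F := F) (Nat.odd_iff.2 (by omega))
  have h0 : ∀ (a : Fin k → Fˣ) (μ : Fˣ), IsSquare μ → ∃ t, (del a μ : MulAut (PSp k F)) = MulAut.conj t := fun a μ h => by
    obtain ⟨t, -, ht⟩ := del_inner a μ h
    exact ⟨t, MulEquiv.ext ht⟩
  refine or_iff_not_imp_left.2 fun h => ?_
  push Not at h
  obtain ⟨α, hα, h⟩ := h
  obtain ⟨g, l, σ, rfl⟩ := exists_par hk h2 α
  have h1 : ¬ IsSquare l := fun h1 => by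
    obtain ⟨t, ht⟩ := h0 1 l h1
    exact h (g * t) σ (by rw [ht, map_mul, mul_assoc])
  have h3 : IsSquare (-l) := by
    classical
    have h5 := GAL.Nrm.two_ne_of_odd (F := F) (Nat.odd_iff.2 (by omega))
    have h6 : ¬ IsSquare (l : F) := fun ⟨r, hr⟩ => h1 ⟨Units.mk0 r fun h => l.ne_zero (by rw [hr, h, mul_zero]), Units.ext hr⟩
    have h7 : ¬ IsSquare (-1 : F) := fun h => FiniteField.isSquare_neg_one_iff.1 h h4
    have h8 : quadraticChar F (-l) = 1 := by
      rw [← neg_one_mul, map_mul, quadraticChar_neg_one_iff_not_isSquare.2 h6,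
        quadraticChar_neg_one_iff_not_isSquare.2 h7, neg_mul_neg, one_mul]
    obtain ⟨r, hr⟩ := (quadraticChar_one_iff_isSquare (neg_ne_zero.2 l.ne_zero)).1 h8
    exact ⟨Units.mk0 r fun h => l.ne_zero (neg_eq_zero.1 (by rw [hr, h, mul_zero])), Units.ext hr⟩
  obtain ⟨t, ht⟩ := h0 1 _ h3
  have h5 : (del 1 l : MulAut (PSp k F)) = MulAut.conj t * del 1 (-1) := ht ▸ MulEquiv.ext fun u => by
    rw [MulAut.mul_apply, del_del, mul_one, neg_mul_neg, mul_one]
  rw [h5, mul_assoc, ← mul_assoc, Subgroup.mul_mem_cancel_left _ (mul_mem (hΓ g) (hΓ t))] at hα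
  obtain ⟨j, hj⟩ := odd_aut h4
  have h6 := pow_mem hα (Nat.card (F ≃+* F))
  have h7 : (del 1 (-1) : MulAut (PSp k F)) ^ 2 = 1 := MulEquiv.ext fun u => by
    rw [pow_two, MulAut.mul_apply, del_del, mul_one, neg_mul_neg, mul_one, del_one, MulAut.one_apply]
  rw [(commute_fld σ).mul_pow, ← map_pow, pow_card_eq_one', map_one, mul_one, hj, pow_succ, pow_mul, h7, one_pow,
    one_mul] at h6
  obtain ⟨s, hs⟩ := h0 (fun _ => -1) 1 IsSquare.one
  have h8 : (dK k (-1) : MulAut (PSp k F)) = MulAut.conj s * del 1 (-1) := hs ▸ MulEquiv.ext fun u => by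
    rw [MulAut.mul_apply, del_del, mul_one, one_mul, dK]
  exact h8 ▸ mul_mem (hΓ s) h6

/-- **The row of the symplectic groups.** -/
theorem row_psp (H : Steps) (hP : CaseP) : Row ODD.PspO := row_psp' H hP alt

end Cfsg.Agent.MK.GC
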