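import Cfsg.Agent.ODD.C3.MDiag
import Cfsg.Agent.MK.G.Defs
import Cfsg.Agent.H158.PronQ
import Cfsg.Agent.H670.SL2Odd
import Cfsg.Agent.GAL.Nrm.Gen

/-!
# MK, the row of `PSp_{2k}(q)`: the stabiliser of the orthogonal decomposition into planes (helper5)

* `Pl a` the plane, `Bl g π` : `g` maps `Pl a` into `Pl (π a)`, `MB k F` the stabiliser, `MP k F` its image in `PSp`;
* `mem_sup` : the kernel of the action on the planes is generated by the groups `SL₂`;
* `exists_syl` : `MP` contains the normaliser of a Sylow `2`-subgroup (all odd `q`); `MP_ne`.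
-/

set_option autoImplicit false
set_option linter.unusedSectionVars false

open Cfsg

namespace Cfsg.Agent.MK.GC

open Cfsg.Agent.ClassicalGeometry.SympBasic Cfsg.Agent.H670 Cfsg.Agent.H670.SL2 Cfsg.Agent.ODD.PS.C3 Cfsg.Agent.ODD.C3
open Cfsg.Agent.TitsThree Cfsg.Agent.TitsThree.WittFrame Cfsg.Agent.TitsThree.WittWeyl Cfsg.Agent.TitsThree.SpIdent
open Cfsg.Agent.Nodes Cfsg.Agent.Nodes.WittRoot

/-- a subgroup which contains the normaliser of a Sylow subgroup -/
theorem syl_le {G : Type} [Group G] [Finite G] {M : Subgroup G} {S : Set G} (h4 : ∀ x ∈ S, x ^ 4 = 1)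
    (hc : ∀ x ∈ S, ∀ y ∈ S, x * y = y * x) (hM : ∀ x ∈ S, x ∈ M) (h : ∀ g, (∀ x ∈ S, g * x * g⁻¹ ∈ M) → g ∈ M) :
    ∃ Q : Sylow 2 G, Subgroup.normalizer ((Q : Subgroup G) : Set G) ≤ M := by
  have h1 : ∀ x ∈ Subgroup.closure S, x ^ 4 = 1 := fun x hx => by
    have := Subgroup.isMulCommutative_closure hc
    induction hx using Subgroup.closure_induction with
    | mem x hx => exact h4 x hx
    | one => exact one_pow _
    | mul x y hx hy h1 h2 =>
      have h3 : Commute x y := setLike_mul_comm hx hy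
      rw [h3.mul_pow, h1, h2, one_mul]
    | inv x _ h1 => rw [inv_pow, h1, inv_one]
  have h2 : IsPGroup 2 ((Subgroup.closure S).subgroupOf M) := fun x => ⟨2, Subtype.ext (Subtype.ext (h1 _ x.2))⟩
  obtain ⟨P, hP⟩ := h2.exists_le_sylow
  have h3 : ∀ g : G, (∀ s ∈ (P : Subgroup M).map M.subtype, g * s * g⁻¹ ∈ (P : Subgroup M).map M.subtype) → g ∈ M :=
    fun g hg => h g fun x hx =>
      Subgroup.map_subtype_le _ (hg x ⟨⟨x, hM x hx⟩, hP (Subgroup.subset_closure hx), rfl⟩)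
  obtain ⟨Q, hQ⟩ := H158.PronQ.exists_sylow_eq ((P : Subgroup M).map M.subtype) (P.isPGroup'.map _) fun g hg hk => by
    obtain ⟨j, hj⟩ := hk
    have := Fintype.ofFinite M
    refine ⟨⟨g, h3 g hg⟩, GAL.Nrm.mem_of_pow_mem P (Subgroup.mem_normalizer_fintype fun s hs => ?_) (k := j) ?_, rfl⟩
    · obtain ⟨t, ht, e⟩ := hg s ⟨s, hs, rfl⟩
      exact (show t = ⟨g, h3 g hg⟩ * s * ⟨g, h3 g hg⟩⁻¹ from Subtype.ext e) ▸ ht
    · rw [show (⟨g, h3 g hg⟩ : M) ^ 2 ^ j = 1 from Subtype.ext hj]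
      exact one_mem _
  refine ⟨Q, fun g hg => h3 g fun s hs => ?_⟩
  rw [← hQ] at hs ⊢
  exact (Subgroup.mem_normalizer_iff.1 hg s).1 hs

variable {F : Type} [Field F] {k : ℕ}

/-- a subgroup of `SL₂` which contains the unipotent triangular matrices -/
theorem sl2_mem {N : Subgroup (S2 F)} (h1 : ∀ s, x s ∈ N) (h2 : ∀ s, y s ∈ N) (g : S2 F) : g ∈ N := by
  have h3 : ∀ u : Fˣ, tor u * wel ∈ N := fun u => by
    rw [tor_mul_wel]
    exact mul_mem (mul_mem (h1 _) (h2 _)) (h1 _)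
  have h4 : wel ∈ N := by simpa using h3 1
  have h5 : ∀ u : Fˣ, tor u ∈ N := fun u => by simpa using mul_mem (h3 u) (inv_mem h4)
  rcases (data F).bruhat g with ⟨s, t, ⟨u, rfl⟩, rfl⟩ | ⟨s, r, t, ⟨u, rfl⟩, rfl⟩
  · exact mul_mem (h1 _) (h5 _)
  · exact mul_mem (mul_mem (mul_mem (h1 _) h4) (h5 _)) (h1 _)

/-- the hyperbolic plane `a` -/
def Pl (a : Fin k) : Submodule F (Fin k ⊕ Fin k → F) where
  carrier := {v | ∀ j, j ≠ a → v (Sum.inl j) = 0 ∧ v (Sum.inr j) = 0}
  add_mem' hv hw j hj := ⟨by rw [Pi.add_apply, (hv j hj).1, (hw j hj).1, add_zero],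
    by rw [Pi.add_apply, (hv j hj).2, (hw j hj).2, add_zero]⟩
  zero_mem' _ _ := ⟨rfl, rfl⟩
  smul_mem' c v hv j hj := ⟨by rw [Pi.smul_apply, (hv j hj).1, smul_zero], by rw [Pi.smul_apply, (hv j hj).2, smul_zero]⟩

theorem e_mem (a : Fin k) : e k F a ∈ Pl (F := F) a := fun j hj =>
  ⟨Pi.single_eq_of_ne (by simp) _, Pi.single_eq_of_ne (by simpa using hj) _⟩

theorem f_mem (a : Fin k) : f k F a ∈ Pl (F := F) a := fun j hj =>
  ⟨Pi.single_eq_of_ne (by simpa using hj) _, Pi.single_eq_of_ne (by simp) _⟩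

theorem b_mem (z : Fin k × Bool) : (frame k F).b z ∈ Pl (F := F) z.1 := by
  obtain ⟨a, s⟩ := z
  cases s
  · exact f_mem a
  · exact e_mem a

theorem er (a : Fin k) : e k F a (Sum.inr a) = 1 := Pi.single_eq_same _ _
theorem el (a : Fin k) : e k F a (Sum.inl a) = 0 := Pi.single_eq_of_ne (by simp) _
theorem fr (a : Fin k) : f k F a (Sum.inr a) = 0 := Pi.single_eq_of_ne (by simp) _
theorem fl (a : Fin k) : f k F a (Sum.inl a) = 1 := Pi.single_eq_same _ _

theorem eq_of_mem {a : Fin k} {v : Fin k ⊕ Fin k → F} (hv : v ∈ Pl (F := F) a) :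
    v = v (Sum.inr a) • e k F a + v (Sum.inl a) • f k F a := by
  funext j
  rcases j with j | j <;> by_cases h : j = a
  · rw [h, Pi.add_apply, Pi.smul_apply, Pi.smul_apply, el, fl, smul_zero, zero_add, smul_eq_mul, mul_one]
  · rw [Pi.add_apply, Pi.smul_apply, Pi.smul_apply, (hv j h).1, (e_mem a j h).1, (f_mem a j h).1, smul_zero, smul_zero,
      add_zero]
  · rw [h, Pi.add_apply, Pi.smul_apply, Pi.smul_apply, er, fr, smul_zero, add_zero, smul_eq_mul, mul_one]
  · rw [Pi.add_apply, Pi.smul_apply, Pi.smul_apply, (hv j h).2, (e_mem a j h).2, (f_mem a j h).2, smul_zero, smul_zero,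
      add_zero]

theorem eq_zero_of_mem {a b : Fin k} (h : a ≠ b) {v : Fin k ⊕ Fin k → F} (ha : v ∈ Pl (F := F) a)
    (hb : v ∈ Pl (F := F) b) : v = 0 := by
  rw [eq_of_mem ha, (hb a h).1, (hb a h).2, zero_smul, zero_smul, add_zero]

theorem e_ne (a : Fin k) : e k F a ≠ 0 := fun h => one_ne_zero ((er a).symm.trans (congrFun h _))

/-- `g` maps the plane `a` into the plane `π a` -/
def Bl (g : isos (form k F)) (π : Fin k → Fin k) : Prop := ∀ a, ∀ v ∈ Pl (F := F) a, g.1 v ∈ Pl (F := F) (π a)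

theorem bl_of {g : isos (form k F)} {π : Fin k → Fin k} (h : ∀ z, g.1 ((frame k F).b z) ∈ Pl (F := F) (π z.1)) :
    Bl g π := fun a v hv => by
  rw [eq_of_mem hv, map_add, map_smul, map_smul]
  exact add_mem (Submodule.smul_mem _ _ (h (a, true))) (Submodule.smul_mem _ _ (h (a, false)))

theorem Bl.mul {g g' : isos (form k F)} {π π' : Fin k → Fin k} (h : Bl g π) (h' : Bl g' π') :
    Bl (g * g') fun a => π (π' a) := fun a v hv => h _ _ (h' a v hv)

theorem Bl.unique {g : isos (form k F)} {π π' : Fin k → Fin k} (h : Bl g π) (h' : Bl g π') (a : Fin k) : π a = π' a := by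
  by_contra h1
  exact e_ne a (g.1.map_eq_zero_iff.1 (eq_zero_of_mem h1 (h a _ (e_mem a)) (h' a _ (e_mem a))))

theorem bl_of_mono {g : isos (form k F)} {ρ : Fin k × Bool → Fin k × Bool} (h : Mono (frame k F) g.1 ρ)
    {π : Fin k → Fin k} (hπ : ∀ z, (ρ z).1 = π z.1) : Bl g π := bl_of fun z => by
  obtain ⟨l, -, hl⟩ := h z
  rw [hl, ← hπ]
  exact Submodule.smul_mem _ _ (b_mem _)

theorem P0_sub (a : Fin k) (s : S2 F) (v : Fin k ⊕ Fin k → F) : (P0 a s).1 v - v ∈ Pl (F := F) a := by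
  rw [P0_apply, pl, add_assoc, add_sub_cancel_left]
  exact add_mem (Submodule.smul_mem _ _ (e_mem a)) (Submodule.smul_mem _ _ (f_mem a))

theorem bl_P0 (a : Fin k) (s : S2 F) : Bl (P0 a s) id := bl_of fun z => by
  by_cases h : z.1 = a
  · subst h
    have h1 := add_mem (P0_sub z.1 s ((frame k F).b z)) (b_mem z)
    rwa [sub_add_cancel] at h1
  · rw [P0_ne a s h]
    exact b_mem z

theorem finite_isos [Finite F] : Finite (isos (form k F)) := Finite.of_injective _ toSp_injective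

/-- the stabiliser of the decomposition, as a monoid -/
def MB0 (k : ℕ) (F : Type) [Field F] : Submonoid (isos (form k F)) where
  carrier := {g | ∃ π : Equiv.Perm (Fin k), Bl g π}
  one_mem' := ⟨1, fun _ _ hv => hv⟩
  mul_mem' := fun ⟨π, h⟩ ⟨π', h'⟩ => ⟨π * π', h.mul h'⟩

/-- the stabiliser of the decomposition -/
def MB (k : ℕ) (F : Type) [Field F] [Finite F] : Subgroup (isos (form k F)) where
  toSubmonoid := MB0 k F
  inv_mem' := haveI := finite_isos (k := k) (F := F); G.inv_mem_of_finite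

/-- the block of an element which fixes a plane -/
theorem exists_blk {g : isos (form k F)} {a : Fin k} (h : ∀ v ∈ Pl (F := F) a, g.1 v ∈ Pl (F := F) a) :
    ∃ s : S2 F, ∀ v ∈ Pl (F := F) a, g.1 v = (P0 a s).1 v := by
  have h1 := eq_of_mem (h _ (e_mem a))
  have h2 := eq_of_mem (h _ (f_mem a))
  have h3 : sympForm k F (g.1 (e k F a)) (g.1 (f k F a)) = 1 := (g.2 _ _).trans (ef' a)
  rw [h1, h2] at h3
  simp only [sympForm_add_left, sympForm_add_right, sympForm_smul_left, sympForm_smul_right, ee, ff, ef', fe'] at h3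
  let s : S2 F := ⟨!![g.1 (e k F a) (Sum.inr a), g.1 (f k F a) (Sum.inr a); g.1 (e k F a) (Sum.inl a),
    g.1 (f k F a) (Sum.inl a)], by rw [Matrix.det_fin_two_of]; linear_combination h3⟩
  refine ⟨s, fun v hv => ?_⟩
  rw [eq_of_mem hv, map_add, map_add, map_smul, map_smul, map_smul, map_smul]
  exact congrArg₂ _ (congrArg _ (h1.trans (P0_e a s).symm)) (congrArg _ (h2.trans (P0_f a s).symm))

/-- the kernel of the action on the planes -/
theorem mem_sup {g : isos (form k F)} (h : Bl g id) : g ∈ ⨆ a, (P0 (F := F) a).range := by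
  have key : ∀ S : Finset (Fin k), ∀ g : isos (form k F), Bl g id →
      (∀ z : Fin k × Bool, z.1 ∉ S → g.1 ((frame k F).b z) = (frame k F).b z) → g ∈ ⨆ a, (P0 (F := F) a).range := by
    intro S
    induction S using Finset.induction_on with
    | empty =>
      intro g _ h2
      rw [show g = 1 from Subtype.ext (ext_b fun z => h2 z (Finset.notMem_empty _))]
      exact one_mem _
    | insert a S _ ih =>
      intro g h1 h2
      obtain ⟨s, hs⟩ := exists_blk (h1 a)
      have h3 := ih (P0 a s⁻¹ * g) ((bl_P0 a _).mul h1) fun z hz => by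
        show (P0 a s⁻¹).1 (g.1 _) = _
        by_cases h4 : z.1 = a
        · rw [hs _ (h4 ▸ b_mem z)]
          show (P0 a s⁻¹ * P0 a s).1 _ = _
          rw [← map_mul, inv_mul_cancel, map_one]
          rfl
        · rw [h2 z (by simp [h4, hz]), P0_ne a _ h4]
      have h4 := mul_mem (Subgroup.mem_iSup_of_mem (S := fun a => (P0 (F := F) a).range) a ⟨s, rfl⟩) h3
      rwa [map_inv, mul_inv_cancel_left] at h4
  exact key Finset.univ g h fun z hz => absurd (Finset.mem_univ _) hz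

/-- the element of order four of the plane `a` -/
abbrev iw (F : Type) [Field F] (a : Fin k) : isos (form k F) := P0 a wel

theorem zz_apply {a : Fin k} {v : Fin k ⊕ Fin k → F} (hv : v ∈ Pl (F := F) a) :
    (iw F a).1 ((iw F a).1 v) = -v := by
  have h1 : (iw F a).1 (e k F a) = -f k F a := (P0_e a _).trans (by
    rw [wel00, wel10, zero_smul, zero_add, neg_one_smul]; rfl)
  have h2 : (iw F a).1 (f k F a) = e k F a := (P0_f a _).trans (by
    rw [wel01, wel11, zero_smul, add_zero, one_smul]; rfl)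
  rw [eq_of_mem hv]
  simp only [map_add, map_smul, map_neg, h1, h2]
  module

theorem mem_of_zz (h2 : (2 : F) ≠ 0) {a : Fin k} {v : Fin k ⊕ Fin k → F} (hv : (iw F a).1 ((iw F a).1 v) = -v) :
    v ∈ Pl (F := F) a := by
  have h1 := add_mem (P0_sub a wel ((iw F a).1 v)) (P0_sub a wel v)
  rw [hv, sub_add_sub_cancel, show -v - v = (-2 : F) • v by module] at h1
  exact (Submodule.smul_mem_iff _ (neg_ne_zero.2 h2)).1 h1

theorem zz_zz (a : Fin k) (v : Fin k ⊕ Fin k → F) :
    (iw F a).1 ((iw F a).1 ((iw F a).1 ((iw F a).1 v))) = v := by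
  have h1 := zz_apply (add_mem (P0_sub a wel ((iw F a).1 v)) (P0_sub a wel v))
  rw [sub_add_sub_cancel, map_sub, map_sub, neg_sub, sub_left_inj] at h1
  exact h1

/-- a conjugate of the element of order four of a plane which permutes the planes -/
theorem exists_neg (h2 : (2 : F) ≠ 0) {g : isos (form k F)} {a : Fin k} {σ : Fin k → Fin k}
    (h : Bl (g * iw F a * g⁻¹) σ) : ∃ b, ∀ v ∈ Pl (F := F) b, g⁻¹.1 v ∈ Pl (F := F) a := by
  set u := g * iw F a * g⁻¹ with hu
  have hg : ∀ w, g.1⁻¹ (g.1 w) = w := g.1.symm_apply_apply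
  have hg' : ∀ w, g.1 (g.1⁻¹ w) = w := g.1.apply_symm_apply
  have h0 : ∀ w, u.1 (g.1 w) = g.1 ((iw F a).1 w) := fun w => congrArg (fun w => g.1 ((iw F a).1 w)) (hg w)
  have h1 : ∀ v, u.1 (u.1 (u.1 v - v)) = -(u.1 v - v) := fun v => by
    rw [← hg' v, h0, ← map_sub, h0, h0, zz_apply (P0_sub a wel _), map_neg]
  have h3 : ∀ v, u.1 (u.1 (u.1 (u.1 v))) = v := fun v => by rw [← hg' v, h0, h0, h0, h0, zz_zz]
  have h4 : ∀ b, σ (σ b) = b := fun b => by
    by_contra h5
    have m1 := h b _ (e_mem b)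
    have m2 := h _ _ m1
    have m3 := h _ _ m2
    have m4 := h _ _ m3
    rw [h3] at m4
    have h6 : σ (σ (σ (σ b))) = b := by
      by_contra h7
      exact e_ne b (eq_zero_of_mem h7 m4 (e_mem b))
    have h7 : σ b ≠ b := fun h8 => h5 (by rw [h8, h8])
    have h8 : σ (σ (σ b)) ≠ b := fun h9 => h7 (by rwa [h9] at h6)
    have h9 := congrFun (h1 (e k F b)) (Sum.inr b)
    rw [map_sub, map_sub, Pi.sub_apply, Pi.neg_apply, Pi.sub_apply, (m1 b h7.symm).2, (m2 b (Ne.symm h5)).2,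
      (m3 b h8.symm).2, er] at h9
    exact one_ne_zero (α := F) (by linear_combination -h9)
  have h5 : ∀ b, (∀ v ∈ Pl (F := F) b, u.1 (u.1 v) = v) ∨ ∀ v ∈ Pl (F := F) b, u.1 (u.1 v) = -v := fun b => by
    obtain ⟨s, hs⟩ := exists_blk (g := u * u) (a := b) fun v hv => h4 b ▸ h _ _ (h b v hv)
    have h6 : ∀ v ∈ Pl (F := F) b, (P0 b (s * s)).1 v = v := fun v hv => by
      rw [map_mul]
      show (P0 b s).1 ((P0 b s).1 v) = v
      rw [← hs _ (bl_P0 b s b v hv), ← hs v hv]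
      exact h3 v
    have h7 := (P0_e b (s * s)).symm.trans (h6 _ (e_mem b))
    have h8 := (P0_f b (s * s)).symm.trans (h6 _ (f_mem b))
    have a1 := congrFun h7 (Sum.inr b)
    have a2 := congrFun h7 (Sum.inl b)
    have a3 := congrFun h8 (Sum.inr b)
    simp only [frame_b_true, frame_b_false, Pi.add_apply, Pi.smul_apply, er, el, fr, fl, smul_eq_mul, mul00, mul10,
      mul01, mul11] at a1 a2 a3
    have a4 := det_eq s
    have a5 : e00 s + e11 s ≠ 0 := fun h0 => h2 (by linear_combination e00 s * h0 - a1 - a4)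
    have a6 : e10 s = 0 := (mul_eq_zero.1 (by linear_combination a2 : e10 s * (e00 s + e11 s) = 0)).resolve_right a5
    have a7 : e01 s = 0 := (mul_eq_zero.1 (by linear_combination a3 : e01 s * (e00 s + e11 s) = 0)).resolve_right a5
    have a8 : e00 s * e00 s = 1 := by linear_combination a1 - e01 s * a6
    have a9 : e11 s = e00 s := by linear_combination e00 s * a4 - e11 s * a8 + e00 s * e01 s * a6
    have b1 : ∀ v ∈ Pl (F := F) b, u.1 (u.1 v) = e00 s • v := fun v hv => by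
      refine (hs v hv).trans ?_
      have b2 : (P0 b s).1 (e k F b) = _ := P0_e b s
      have b3 : (P0 b s).1 (f k F b) = _ := P0_f b s
      rw [eq_of_mem hv, map_add, map_smul, map_smul, b2, b3, a6, a7, a9, frame_b_true, frame_b_false]
      module
    exact (mul_self_eq_one_iff.1 a8).imp (fun h v hv => by rw [b1 v hv, h, one_smul])
      fun h v hv => by rw [b1 v hv, h, neg_one_smul]
  by_contra h6
  have h7 : (u * u).1 = 1 := ext_b fun z => ((h5 z.1).resolve_right fun h7 => h6 ⟨z.1, fun v hv =>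
    mem_of_zz h2 (g.1.injective (by
      show g.1 ((iw F a).1 ((iw F a).1 (g.1⁻¹ v))) = g.1 (-(g.1⁻¹ v))
      rw [← h0, ← h0, map_neg, hg', h7 v hv]))⟩) _ (b_mem z)
  have h8 : u.1 (u.1 (g.1 (e k F a))) = g.1 (e k F a) := LinearEquiv.congr_fun h7 _
  rw [h0, h0, zz_apply (e_mem a)] at h8
  have h9 := congrFun (g.1.injective h8) (Sum.inr a)
  rw [Pi.neg_apply, er] at h9
  exact h2 (by linear_combination -h9)

variable [Finite F]

theorem mem_MB {g : isos (form k F)} : g ∈ MB k F ↔ ∃ π : Equiv.Perm (Fin k), Bl g π := Iff.rfl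

theorem P0_mem (a : Fin k) (s : S2 F) : P0 a s ∈ MB k F := ⟨1, bl_P0 a s⟩

theorem norm_key (h2 : (2 : F) ≠ 0) {g : isos (form k F)} (h : ∀ a, g * iw F a * g⁻¹ ∈ MB k F) : g ∈ MB k F := by
  choose τ hτ using fun a => exists_neg h2 (h a).choose_spec
  have h1 : Function.Injective τ := fun a a' h1 => by
    by_contra h3
    exact e_ne _ (g⁻¹.1.map_eq_zero_iff.1 (eq_zero_of_mem h3 (hτ a _ (e_mem _)) (hτ a' _ (h1 ▸ e_mem _))))
  refine inv_mem_iff.1 ⟨(Equiv.ofBijective τ (Finite.injective_iff_bijective.1 h1)).symm, fun b v hv => hτ _ v ?_⟩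
  rwa [show τ _ = b from (Equiv.ofBijective τ (Finite.injective_iff_bijective.1 h1)).apply_symm_apply b]

omit [Finite F] in
/-- the image in the projective group -/
noncomputable def MP (k : ℕ) (F : Type) [Field F] [Finite F] : Subgroup (PSp k F) := (MB k F).map toPSp

theorem mem_MP {g : isos (form k F)} : toPSp g ∈ MP k F ↔ g ∈ MB k F := by
  refine ⟨fun ⟨g', h1, h2⟩ => ?_, fun h => ⟨g, h, rfl⟩⟩
  obtain ⟨c, -, hc⟩ := exists_smul_of_toPSp_eq_one (g := g'⁻¹ * g) (by rw [map_mul, map_inv, h2, inv_mul_cancel])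
  have h3 : g'⁻¹ * g ∈ MB k F := ⟨1, fun a v hv => by rw [hc]; exact Submodule.smul_mem _ _ hv⟩
  simpa using mul_mem h1 h3

theorem Phi_mem (a : Fin k) (s : S2 F) : Phi a s ∈ MP k F := mem_MP.2 (P0_mem a s)

omit [Finite F] in
theorem Phi_comm {a b : Fin k} (h : a ≠ b) (s t : S2 F) : Phi a s * Phi b t = Phi b t * Phi a s := by
  rw [Phi_apply, Phi_apply, ← map_mul, ← map_mul, comm_P0 (P0_ne b t h) (P0_ne b t h)]

/-- **the normaliser of a Sylow `2`-subgroup** -/
theorem exists_syl (h2 : (2 : F) ≠ 0) :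
    ∃ Q : Sylow 2 (PSp k F), Subgroup.normalizer ((Q : Subgroup (PSp k F)) : Set (PSp k F)) ≤ MP k F := by
  have := finite_isos (k := k) (F := F)
  have : Finite (PSp k F) := Finite.of_surjective _ toPSp_surjective
  refine syl_le (S := Set.range fun a => Phi a wel) ?_ ?_ ?_ fun g hg => ?_
  · rintro _ ⟨a, rfl⟩
    show toPSp (iw F a) ^ 4 = 1
    rw [← map_pow, show iw F a ^ 4 = 1 from Subtype.ext (LinearEquiv.ext fun v => by
      rw [show 4 = 1 + 1 + 1 + 1 from rfl, pow_succ, pow_succ, pow_succ, pow_one]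
      exact zz_zz a v), map_one]
  · rintro _ ⟨a, rfl⟩ _ ⟨b, rfl⟩
    by_cases h : a = b
    · rw [h]
    · exact Phi_comm h _ _
  · rintro _ ⟨a, rfl⟩
    exact Phi_mem a _
  · obtain ⟨g, rfl⟩ := toPSp_surjective g
    refine mem_MP.2 (norm_key h2 fun a => mem_MP.1 ?_)
    rw [map_mul, map_mul, map_inv]
    exact hg _ ⟨a, rfl⟩

theorem MP_ne (hk : 2 ≤ k) : MP k F ≠ ⊤ := fun h => by
  have h0 : (((⟨0, by omega⟩, true) : Fin k × Bool)).1 ≠ ((⟨1, by omega⟩, false) : Fin k × Bool).1 := by simp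
  obtain ⟨π, hπ⟩ := mem_MP.1 (h ▸ Subgroup.mem_top (toPSp ⟨_, (frame k F).isIso_X (⟨0, by omega⟩, true)
    (⟨1, by omega⟩, false) 1⟩))
  have h1 := hπ _ _ (e_mem ⟨1, by omega⟩)
  replace h1 : e k F ⟨1, by omega⟩ + (1 : F) • e k F ⟨0, by omega⟩ ∈ Pl (F := F) (π ⟨1, by omega⟩) :=
    (X_apply_neg (frame k F) h0 1 :) ▸ h1
  rw [one_smul] at h1
  by_cases h2 : (⟨1, by omega⟩ : Fin k) = π ⟨1, by omega⟩
  · have h3 := (h1 ⟨0, by omega⟩ (h2 ▸ h0)).2
    rw [Pi.add_apply, er, (e_mem _ _ h0).2, zero_add] at h3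
    exact one_ne_zero h3
  · have h3 := (h1 _ h2).2
    rw [Pi.add_apply, er, (e_mem _ _ h0.symm).2, add_zero] at h3
    exact one_ne_zero h3

end Cfsg.Agent.MK.GC
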