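import Cfsg.Agent.MK.GC.Blk
import Cfsg.Agent.MK.G.Cover
import Cfsg.Agent.MK.P.Defs
import Cfsg.Agent.ODD.Cov.Fam
import Cfsg.Agent.GAL.Nrm.Dg

/-!
# MK, the row of `PSp_{2k}(q)`, `q` odd (helper5)

The frame `bl cs` of the long roots; `gd`, `au`, `nf`; **`row_psp'`** (hypotheses `P.CaseP`, `P.Alt`).
-/

set_option autoImplicit false
set_option linter.unusedSectionVars false

open Cfsg

namespace Cfsg.Agent.MK.GC

open CoxeterSystem Cfsg.Agent.ChevalleyStructure.CoxeterGeom Cfsg.Agent.Tits.Roots Cfsg.Agent.Nodes.Reps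
  Cfsg.Agent.Nodes.BNOf Cfsg.Agent.Nodes.Bruhat Cfsg.Agent.KFacts.RgdAut Cfsg.Agent.KFacts.RgdDiag Cfsg.Agent.ODD.QB
  Cfsg.Agent.MK.G Cfsg.Agent.ODD
open Cfsg.Agent.ClassicalGeometry.SympBasic Cfsg.Agent.H670 Cfsg.Agent.H670.SL2 Cfsg.Agent.ODD.PS.C3 Cfsg.Agent.ODD.C3
open Cfsg.Agent.TitsThree Cfsg.Agent.TitsThree.WittFrame Cfsg.Agent.TitsThree.WittWeyl Cfsg.Agent.TitsThree.SpIdent
open Cfsg.Agent.Nodes Cfsg.Agent.Nodes.WittRoot Cfsg.Agent.Nodes.TypeC Cfsg.Agent.Nodes.WittRGD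

section roots

variable {k : ℕ} {W : Type} [Group W] (cs : CoxeterSystem (CoxeterMatrix.B k) W)

/-- long roots -/
def Lg (r : Fin k → ℤ) : Prop := ∃ z, TypeC.ee r = wt z + wt z

theorem Lg.act {r : Fin k → ℤ} (h : Lg r) (w : W) : Lg (rep cs (isCartan k) w r) := by
  induction w using cs.simple_induction_left with
  | one => rwa [map_one]
  | mul_simple_left w i ih =>
    obtain ⟨z, hz⟩ := ih
    rw [rep_mul_apply, rep_simple]
    exact ⟨_, ee_refl_of hz⟩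

theorem lg_sr {i : Fin k} : Lg (sr i) ↔ ¬ (i : ℕ) + 1 < k := by
  refine ⟨fun ⟨z, hz⟩ hi => ?_, fun hi => ⟨(i, true), by rw [ee_sr, bt, nx, dif_neg hi]⟩⟩
  rw [ee_sr, bt] at hz
  rcases wt_add_eq (ok_nx i) (Or.inr rfl) hz with h | h <;> exact H69.OQ.nx_ne hi (congrArg Prod.fst (h.1.trans h.2.symm))

/-- the frame -/
noncomputable def bl (a : Fin k) : Fin k → ℤ := (exists_long cs (a, true)).choose

theorem ee_bl (a : Fin k) : TypeC.ee (bl cs a) = wt (a, true) + wt (a, true) := (exists_long cs (a, true)).choose_spec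

theorem ee_neg_bl (a : Fin k) : TypeC.ee (-bl cs a) = wt (a, false) + wt (a, false) := by
  rw [ee_neg, ee_bl, neg_add, ← wt_ng]
  rfl

theorem Lg.eq {r : Fin k → ℤ} (h : Lg r) : ∃ b, r = bl cs b ∨ r = -bl cs b := by
  obtain ⟨⟨b, s⟩, hz⟩ := h
  cases s
  · exact ⟨b, Or.inr (ee_injective (hz.trans (ee_neg_bl cs b).symm))⟩
  · exact ⟨b, Or.inl (ee_injective (hz.trans (ee_bl cs b).symm))⟩

theorem root_bl (a : Fin k) : IsRoot cs (isCartan k) (bl cs a) := isRoot_iff.2 ⟨_, _, Or.inr rfl, ee_bl cs a⟩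

theorem WD_top [Finite W] : WD cs (isCartan k) (bl cs) = ⊤ :=
  eq_top_iff.2 fun w _ a => (Lg.act cs ⟨_, ee_bl cs a⟩ w).eq cs

end roots

variable {F : Type} [Field F] {k : ℕ}

theorem P0_y (l : Fin k) (s : F) : (P0 l (y s)).1 = (frame k F).Z (l, false) (adm s) := by
  refine ext_b fun z => ?_
  by_cases h1 : z.1 = l
  · obtain ⟨j, b⟩ := z
    obtain rfl : j = l := h1
    cases b
    · rw [P0_f, y01, y11, Z_apply_of_ne _ (ne_neg_self _)]
      module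
    · rw [P0_e, y00, y10]
      refine Eq.trans ?_ (Z_apply_neg (frame k F) (j, false) (adm s)).symm
      show _ = (frame k F).b (j, true) + (1 : F) • (0 : Fin k ⊕ Fin k → F) + (s * 1) • (frame k F).b (j, false)
      module
  · rw [P0_ne l _ h1, Z_apply_of_ne _ fun h => h1 (by rw [h]; rfl)]

theorem x_add (r s : F) : x (r + s) = x r * x s := (data F).X_add r s

theorem x_zero : x (0 : F) = 1 := ext4 rfl rfl rfl rfl

theorem xs_zero (i : Fin k) : xs i (0 : F) = 1 := by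
  rw [← pow_zero (xs i (0 : F)), xs_pow, mul_zero]

theorem del_one (u : PSp k F) : del (1 : Fin k → Fˣ) 1 u = u := by
  obtain ⟨g, rfl⟩ := toPSp_surjective u
  have h1 : DD (1 : Fin k → Fˣ) 1 = 1 := LinearEquiv.ext fun v => funext fun j => by
    rcases j with j | j
    · rw [DD_inl]; simp
    · rw [DD_inr]; simp
  rw [del_toPSp]
  exact congrArg toPSp (Subtype.ext (by rw [cjD_val, h1, one_mul, inv_one, mul_one]))

variable {W : Type} [Group W] (cs : CoxeterSystem (CoxeterMatrix.B k) W)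

theorem mem_X_pos (a : Fin k) (u : PSp k F) :
    u ∈ WittModel.X (KInstSp.model k F) (bl cs a) ↔ ∃ s, u = Phi a (x s) := by
  rw [WittModel.mem_X, rg_eq _ (Or.inr rfl) (ee_bl cs a), PG_self]
  constructor
  · rintro ⟨_, hg, ⟨q, rfl⟩, rfl⟩
    refine ⟨-q.c, congrArg toPSp (Subtype.ext ?_)⟩
    rw [P0_x, _root_.neg_neg, ← eq_adm]
  · rintro ⟨s, rfl⟩
    exact ⟨_, (P0 a (x s)).2, ⟨_, P0_x a s⟩, rfl⟩

theorem mem_X_neg (a : Fin k) (u : PSp k F) :
    u ∈ WittModel.X (KInstSp.model k F) (-bl cs a) ↔ ∃ s, u = Phi a (y s) := by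
  rw [WittModel.mem_X, rg_eq _ (Or.inr rfl) (ee_neg_bl cs a), PG_self]
  constructor
  · rintro ⟨_, hg, ⟨q, rfl⟩, rfl⟩
    refine ⟨q.c, congrArg toPSp (Subtype.ext ?_)⟩
    rw [P0_y, ← eq_adm]
  · rintro ⟨s, rfl⟩
    exact ⟨_, (P0 a (y s)).2, ⟨_, P0_y a s⟩, rfl⟩

theorem comm_bl (a : Fin k) : ∀ u ∈ WittModel.X (KInstSp.model k F) (bl cs a),
    ∀ v ∈ WittModel.X (KInstSp.model k F) (bl cs a), u * v = v * u := fun u hu v hv => by
  obtain ⟨s, rfl⟩ := (mem_X_pos cs a u).1 hu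
  obtain ⟨t, rfl⟩ := (mem_X_pos cs a v).1 hv
  rw [← map_mul, ← map_mul, ← x_add, ← x_add, add_comm]

variable [Fintype F] (p : ℕ) [Fact p.Prime] [CharP F p] [Finite W] [Finite (PSp k F)]

include p in
theorem LZ_bl (a : Fin k) : LZ (WittModel.X (KInstSp.model k F)) (bl cs a) = (Phi a).range := by
  rw [LZ_eq (rgdS k F p cs) (root_bl cs a) (comm_bl cs a)]
  refine le_antisymm (sup_le (fun u hu => ?_) fun u hu => ?_) ?_
  · obtain ⟨s, rfl⟩ := (mem_X_pos cs a u).1 hu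
    exact ⟨_, rfl⟩
  · obtain ⟨s, rfl⟩ := (mem_X_neg cs a u).1 hu
    exact ⟨_, rfl⟩
  · rintro _ ⟨g, rfl⟩
    exact sl2_mem (N := (_ ⊔ _ : Subgroup (PSp k F)).comap (Phi a))
      (fun s => Subgroup.mem_sup_left ((mem_X_pos cs a _).2 ⟨s, rfl⟩))
      (fun s => Subgroup.mem_sup_right ((mem_X_neg cs a _).2 ⟨s, rfl⟩)) g

theorem exists_perm (π : Equiv.Perm (Fin k)) :
    ∃ g : isos (form k F), toPSp g ∈ NN cs (rgdS k F p cs).nsys ∧ Bl g π := by
  rcases k with _ | m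
  · exact ⟨1, by rw [map_one]; exact one_mem _, fun a => a.elim0⟩
  have h1 : π ∈ Submonoid.closure (Set.range fun i : Fin m => Equiv.swap i.castSucc i.succ) :=
    Equiv.Perm.mclosure_swap_castSucc_succ m ▸ Submonoid.mem_top π
  induction h1 using Submonoid.closure_induction with
  | mem _ h =>
    obtain ⟨i, rfl⟩ := h
    have hi : ((i.castSucc : Fin (m + 1)) : ℕ) + 1 < m + 1 := by simp
    refine ⟨⟨_, nn_mem WittU.amb_Sp (adm (1 : F)) i.castSucc⟩, ⟨_, rp_simple cs (rgdS _ F p cs).nsys i.castSucc⟩,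
      bl_of_mono (mono_nn (p0 := adm 1) one_ne_zero i.castSucc) fun ⟨j, s⟩ => ?_⟩
    by_cases h2 : j = i.castSucc
    · rw [h2, sg_up hi]
      exact (Equiv.swap_apply_left _ _).symm
    by_cases h3 : j = i.succ
    · rw [h3, show ((i.succ, s) : Fin (m + 1) × Bool) = (⟨(i.castSucc : Fin (m + 1)) + 1, hi⟩, s) from rfl, sg_down hi]
      exact (Equiv.swap_apply_right _ _).symm
    · rw [sg_of_ne h2 fun h => h3 (Fin.ext h)]
      exact (Equiv.swap_apply_of_ne_of_ne h2 h3).symm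
  | one => exact ⟨1, by rw [map_one]; exact one_mem _, fun _ _ hv => hv⟩
  | mul _ _ _ _ h1 h2 =>
    obtain ⟨g, h3, h4⟩ := h1
    obtain ⟨g', h5, h6⟩ := h2
    exact ⟨g * g', by rw [map_mul]; exact mul_mem h3 h5, h4.mul h6⟩

theorem MP_le : MP k F ≤ MM (rgdS k F p cs) (bl cs) := by
  rintro _ ⟨g, ⟨π, hg⟩, rfl⟩
  obtain ⟨n, h1, h2⟩ := exists_perm cs p π⁻¹ (F := F)
  have h3 : Bl (n * g) id := by simpa [Function.id_def] using h2.mul hg
  have h4 : (⨆ a, (P0 (F := F) a).range) ≤ (MM (rgdS k F p cs) (bl cs)).comap toPSp := iSup_le fun a => by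
    rintro _ ⟨s, rfl⟩
    exact Subgroup.mem_sup_left (Subgroup.mem_iSup_of_mem a (by rw [LZ_bl cs p]; exact ⟨s, rfl⟩))
  have h5 : toPSp n ∈ MM (rgdS k F p cs) (bl cs) := Subgroup.mem_sup_right (by rwa [WD_top, NP_top])
  simpa using mul_mem (inv_mem h5) (h4 (mem_sup h3))

/-- **the data** -/
theorem gd (hp : p ≠ 2) (h2 : (2 : F) ≠ 0) (hk : 2 ≤ k) [IsSimpleGroup (PSp k F)] : GD (rgdS k F p cs) (bl cs) := by
  have h1 : F1 (rgdS k F p cs) (bl cs) := ⟨Fact.out, hp, H905.Md.gg_top (WittModel.G1_eq_top _ (by omega) cs),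
    root_bl cs, fun a => rk_of_comm _ (root_bl cs a) (comm_bl cs a), fun a b h u hu v hv => by
      rw [LZ_bl cs p] at hu hv
      obtain ⟨s, rfl⟩ := hu
      obtain ⟨t, rfl⟩ := hv
      exact Phi_comm h s t⟩
  obtain ⟨Q, hQ⟩ := exists_syl (k := k) h2
  exact h1.gd (weyl_of_top (WD_top cs)) ⟨Q, hQ.trans (MP_le cs p)⟩
    (h1.ne_of_two (a := ⟨0, by omega⟩) (b := ⟨1, by omega⟩) (by simp))

omit [Finite (PSp k F)] in
/-- the long node is fixed -/
theorem long_fix (hF : Odd (Fintype.card F)) {γ : MulAut (PSp k F)} {σ : Equiv.Perm (Fin k)}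
    (D : Diag (WittModel.T (KInstSp.model k F)) (WittModel.X (KInstSp.model k F)) γ σ) {i : Fin k}
    (hi : ¬ (i : ℕ) + 1 < k) : ¬ (σ i : ℕ) + 1 < k := fun hj => by
  obtain ⟨ν, hν⟩ := exists_not_square hF
  have h1 : ∀ c : F, c ≠ 0 → ∃ t : Fˣ, γ (Phi i (x c)) = xs (σ i) (t : F) := fun c hc => by
    obtain ⟨t, ht⟩ := (mem_X_short hj _).1 ((D.pos i _).2 ((mem_X_last hi _).2 ⟨c, rfl⟩))
    refine ⟨Units.mk0 t ?_, ht⟩
    rintro rfl
    rw [xs_zero, MulEquiv.map_eq_one_iff] at ht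
    exact hc (Phi_x_inj i c ht)
  obtain ⟨s, hs⟩ := h1 1 one_ne_zero
  obtain ⟨t, ht⟩ := h1 ν fun h => hν (h ▸ IsSquare.zero)
  obtain ⟨g, h2, h3⟩ := del_inner (Function.update (1 : Fin k → Fˣ) (σ i) (t * s⁻¹)) 1 IsSquare.one
  have h4 := h3 (xs (σ i) (s : F))
  rw [del_short _ _ hj, Function.update_self, Function.update_of_ne (by simp [Fin.ext_iff]), Pi.one_apply, inv_one,
    mul_one, ← Units.val_mul, inv_mul_cancel_right, ← hs, ← ht] at h4
  obtain ⟨g, rfl⟩ := γ.surjective g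
  rw [← map_inv, ← map_mul, ← map_mul, γ.apply_eq_iff_eq] at h4
  obtain ⟨u, hu⟩ := T_dec i g ((D.tor g).1 h2)
  have h5 := hu _ ⟨x ((u : F) ^ 2 * 1), rfl⟩
  have h6 : Phi i (x ν) = Phi i (x ((u : F) ^ 2 * 1)) := by
    refine h4.trans (Eq.trans ?_ (eq_mul_inv_of_mul_eq h5).symm)
    rw [← mul_inv_eq_iff_eq_mul.2 (tor_mul_x u 1), map_mul, map_mul, map_inv]
    group
  have h7 := Phi_x_inj i (ν + -((u : F) ^ 2 * 1)) (by rw [x_add, map_mul, h6, ← map_mul, ← x_add, add_neg_cancel, x_zero,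
    map_one])
  exact hν ⟨u, by linear_combination h7⟩

theorem au (hF : Odd (Fintype.card F)) (Γ : Subgroup (MulAut (PSp k F))) : Au (rgdS k F p cs) (bl cs) Γ :=
  au_of_root fun _ _ σ D => ⟨1, fun a => by
    obtain ⟨v, i, e⟩ := root_bl cs a
    have h1 := Lg.act cs ⟨_, ee_bl cs a⟩ v⁻¹
    rw [e, rep_inv_apply] at h1
    obtain ⟨b, hb⟩ := (Lg.act cs (lg_sr.2 (long_fix hF D (lg_sr.1 h1))) (1 * hat cs σ (D.matrix (rgdS k F p cs)) v)).eq cs
    exact ⟨b, v, i, e, hb⟩⟩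

omit [Fintype F] [Finite (PSp k F)] in
/-- the diagonal automorphisms with signs -/
def DG (Γ : Subgroup (MulAut (PSp k F))) : Subgroup (MulAut (PSp k F)) where
  carrier := {α | α ∈ Γ ∧ ∃ a μ, a * a = 1 ∧ μ * μ = 1 ∧ α = del a μ}
  one_mem' := ⟨one_mem _, 1, 1, one_mul _, one_mul _, MulEquiv.ext fun u => (del_one u).symm⟩
  mul_mem' := by
    rintro _ _ ⟨h1, a, μ, h2, h3, rfl⟩ ⟨h4, b, ν, h5, h6, rfl⟩
    exact ⟨mul_mem h1 h4, a * b, μ * ν, by rw [mul_mul_mul_comm, h2, h5, one_mul],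
      by rw [mul_mul_mul_comm, h3, h6, one_mul], MulEquiv.ext (del_del a b μ ν)⟩
  inv_mem' := by
    rintro _ ⟨h1, a, μ, h2, h3, rfl⟩
    refine ⟨inv_mem h1, a, μ, h2, h3, inv_eq_of_mul_eq_one_right (MulEquiv.ext fun u => ?_)⟩
    rw [MulAut.mul_apply, del_del, h2, h3, del_one, MulAut.one_apply]

include p in
theorem nf (hp : p ≠ 2) {Γ : Subgroup (MulAut (PSp k F))} (hΓ : ∀ g, MulAut.conj g ∈ Γ)
    (hδ : (dK k (-1) : MulAut (PSp k F)) ∈ Γ) : NF cs (isCartan k) (WittModel.X (KInstSp.model k F)) Γ := by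
  have h0 : ∀ α ∈ DG Γ, ∀ u, α (α u) = u := by
    rintro _ ⟨-, a, μ, h2, h3, rfl⟩ u
    rw [del_del, h2, h3, del_one]
  refine ⟨DG Γ, fun _ h => h.1, fun α => ⟨1, Subtype.ext (MulEquiv.ext (h0 _ α.2))⟩, fun α hα r _ u => ?_,
    fun r hr u hu h => ?_⟩
  · obtain ⟨-, a, μ, -, -, rfl⟩ := id hα
    exact ⟨fun h => h0 _ hα u ▸ del_X a μ r h, del_X a μ r⟩
  have h1 : u * u = 1 := by
    obtain ⟨a, b, hab, e⟩ := isRoot_iff.1 hr
    obtain ⟨g, hg, h2, rfl⟩ := (WittModel.mem_X _).1 hu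
    rw [rg_eq _ hab e] at h2
    rcases hab with hab | rfl
    · rw [PG_ne _ hab] at h2
      obtain ⟨t, rfl⟩ := h2
      obtain ⟨s, -, h3⟩ := del_inner (Function.update (1 : Fin k → Fˣ) a.1 (-1)) 1 IsSquare.one
      have h4 := h (del (Function.update (1 : Fin k → Fˣ) a.1 (-1)) 1) ⟨(MulEquiv.ext h3 : _ = MulAut.conj s) ▸ hΓ s, _, _,
        funext fun j => by by_cases h : j = a.1 <;> simp [h], one_mul _, rfl⟩
      refine (congrArg (· * _) h4.symm).trans ((congrArg (· * _) (del_toPSp _ _ _)).trans ((map_mul _ _ _).symm.trans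
        ((congrArg toPSp (Subtype.ext ?_)).trans (map_one _))))
      show DD _ _ * (frame k F).X a b t * (DD _ _)⁻¹ * (frame k F).X a b t = 1
      have h5 : ew (Function.update (1 : Fin k → Fˣ) a.1 (-1)) 1 a = -1 := by unfold ew; split_ifs <;> simp
      have h6 : ew (Function.update (1 : Fin k → Fˣ) a.1 (-1)) 1 b = 1 := by unfold ew; split_ifs <;> simp [hab.symm]
      rw [DD_X _ _ hab, h5, h6, ← Frame.X_add, ← (frame k F).X_zero a b]
      simp
    · rw [PG_self] at h2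
      obtain ⟨q, rfl⟩ := h2
      have h4 := h _ ⟨hδ, _, _, funext fun j => by simp, by simp, rfl⟩
      refine (congrArg (· * _) h4.symm).trans ((congrArg (· * _) (del_toPSp _ _ _)).trans ((map_mul _ _ _).symm.trans
        ((congrArg toPSp (Subtype.ext ?_)).trans (map_one _))))
      show DD _ _ * (frame k F).Z a q * (DD _ _)⁻¹ * (frame k F).Z a q = 1
      have h5 : ew (fun _ : Fin k => (-1 : Fˣ)) (-1) a * ew (fun _ : Fin k => (-1 : Fˣ)) (-1) a = 1 := by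
        unfold ew; split_ifs <;> simp
      rw [eq_adm q, DD_Z, h5, ← Frame.Z_mul, ← adm_add, ← (frame k F).Z_one a]
      congr 1
      refine Frame.Adm.ext rfl ?_
      show ((1 * (-1)⁻¹ : Fˣ) : F) * q.c + q.c = 0
      simp
  obtain ⟨j, hj⟩ := (rgdS k F p cs).pgrp' hr ⟨u, hu⟩
  exact eq_one_of_pow (((Fact.out : p.Prime).odd_of_ne_two hp).pow (n := j)) (k := 1) ((pow_two u).trans h1)
    (congrArg Subtype.val hj)

omit [Finite (PSp k F)] in
/-- the generic case -/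
theorem gd_dK (H : Steps) (hF : Odd (Fintype.card F)) (hk : 2 ≤ k) {X : Type} [Group X] [Finite X] (e : X ≃* PSp k F)
    {Γ : Subgroup (MulAut X)} (s : Sit X Γ) (hδ : (dK k (-1) : MulAut (PSp k F)) ∈ ind e.toMonoidHom Γ) : Gd X Γ := by
  have : Finite (PSp k F) := Finite.of_surjective _ e.surjective
  have := S0270.result k hk fun _ => Cv.three_le hF
  have h2 := GAL.Nrm.two_ne_of_odd hF
  obtain ⟨p, hp⟩ := CharP.exists F
  have : Fact p.Prime := ⟨CharP.char_is_prime F p⟩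
  have hp2 : p ≠ 2 := by
    rintro rfl
    exact h2 (by exact_mod_cast CharP.cast_eq_zero F 2)
  have := finite_W (CoxeterMatrix.B k).toCoxeterSystem
  have h1 : e.toMonoidHom.ker = ⊥ := (MonoidHom.ker_eq_bot_iff _).2 e.injective
  refine mainI H _ _ (gd (CoxeterMatrix.B k).toCoxeterSystem p hp2 h2 hk) X e.toMonoidHom
    ⟨e.surjective, h1 ▸ bot_le, by rw [h1]; simp, by rw [h1]; simp⟩ Γ s (au _ p hF _) (nf _ p hp2 (fun g => ?_) hδ)
  obtain ⟨y, rfl⟩ := e.surjective g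
  exact ⟨_, s.inn y, fun x => by simp⟩

/-- **The row of the symplectic groups.** -/
theorem row_psp' (H : Steps) (hP : P.CaseP) (hA : P.Alt) : Row PspO := by
  intro X _ _ c Γ s
  obtain ⟨-, F, _, _, k, hF, hk, ⟨e⟩⟩ := Cv.plain_psp X c
  have h1 : ∀ g, MulAut.conj g ∈ ind e.toMonoidHom Γ := fun g => by
    obtain ⟨y, rfl⟩ := e.surjective g
    exact ⟨_, s.inn y, fun x => by simp⟩
  by_cases h4 : Fintype.card F % 4 = 3
  · refine (hA F k h4 hk _ h1).elim (fun h => hP F k h4 hk X e Γ s fun α hα => ?_) (gd_dK H hF hk e s)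
    obtain ⟨g, σ, h2⟩ := h (MulAut.congr e α) ⟨α, hα, fun y => by simp⟩
    exact ⟨g, σ, fun y => by simpa using DFunLike.congr_fun h2 (e y)⟩
  · obtain ⟨r, hr⟩ := FiniteField.isSquare_neg_one_iff.2 h4
    have h0 : r ≠ 0 := fun h => by simp [h] at hr
    obtain ⟨t, -, ht⟩ := del_inner (k := k) (fun _ => (-1 : Fˣ)) (-1) ⟨Units.mk0 r h0, Units.ext hr⟩
    exact gd_dK H hF hk e s ((MulEquiv.ext ht : dK k (-1) = MulAut.conj t) ▸ h1 t)

end Cfsg.Agent.MK.GC
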